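import Groth.Agent.Lib.P1Split17.Main
import Groth.Agent.Lib.Kunneth1.Strip
import Groth.Agent.Lib.Twist.ProjSpace
import Groth.Agent.Lib.ModM1.FibreProd
import Groth.Agent.Lib.TensorMod.Invertible
import Groth.Agent.Lib.ThetaGrp19.Scalar

/-! The sequence `0 → O(-i-1) → O(-i) ⊕ O(i) → O(i+1) → 0` on the projective line, and two kernels. -/

set_option autoImplicit false
set_option linter.style.haveILetI false
set_option backward.isDefEq.respectTransparency false
set_option backward.isDefEq.respectTransparency.types false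
universe u v w

open CategoryTheory CategoryTheory.Limits AlgebraicGeometry TopologicalSpace Opposite

noncomputable section

namespace Groth.Agent.JumpP1

open Groth.Agent Groth.Agent.M1 Groth.Agent.P1Split

variable (k : Type u) [Field k]

local notation "T" d:max => _root_.Twist.twist (gr k) d

theorem gen_bijective (d : ℤ) (a : Fin 2) :
    Function.Bijective fun r : Γ(P1 k, U k a) => r • twGen k d a := by
  have h := isGen_twGen k d a _ le_rfl
  simpa only [mres_id] using h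

/-- A map of twists given by polynomials on the two charts. -/
theorem exists_mulHom (d e : ℤ) (p : Fin 2 → Polynomial k)
    (hp : negHom k (p 1) * LaurentPolynomial.T e = LaurentPolynomial.T d * posHom k (p 0)) :
    ∃ φ : T d ⟶ T e, ∀ a, φ.app (U k a) (twGen k d a) = coordHom k a (p a) • twGen k e a :=
  exists_hom_of_transition k (T e) d (fun a => coordHom k a (p a) • twGen k e a) (by
    rw [mres_smul, mres_smul, ores_coordHom, ores_coordHom, twGen_transition, ← mul_smul, ← mul_smul,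
      ← lauHom_negHom, ← lauHom_posHom, ← map_mul, ← map_mul, hp])

variable {k}

theorem ext_gen {d : ℤ} {M : (P1 k).Modules} {φ ψ : T d ⟶ M}
    (h : ∀ a, φ.app (U k a) (twGen k d a) = ψ.app (U k a) (twGen k d a)) : φ = ψ := by
  have hx : ∀ x : P1 k, ∃ a, x ∈ U k a := fun x => Opens.mem_iSup.1 ((iSup_U k).ge (Opens.mem_top x))
  choose a ha using hx
  exact ThetaGrp19.hom_ext_gens ha (fun x => isGen_twGen k d (a x)) fun x => h (a x)

theorem bijective_app {d e : ℤ} (φ : T d ⟶ T e) (a : Fin 2) (c : Γ(P1 k, U k a)) (hc : IsUnit c)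
    (h : φ.app (U k a) (twGen k d a) = c • twGen k e a) : Function.Bijective (φ.app (U k a)) := by
  refine ((gen_bijective k d a).of_comp_iff _).1 ?_
  have e1 : ⇑(φ.app (U k a)) ∘ (fun r : Γ(P1 k, U k a) => r • twGen k d a) =
      fun r => (r * c) • twGen k e a := funext fun r => by
    rw [Function.comp_apply, Scheme.Modules.Hom.app_smul, h, mul_smul]
  rw [e1]
  exact (gen_bijective k e a).comp (Units.mulRight hc.unit).bijective

theorem isQCoh_tw (d : ℤ) : Coh.IsQCoh (T d) :=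
  M2.isQCoh_of_isFinLocFree (M2.isFinLocFree_of_isInvertible (Twist.isInvertible_twistProjSpace 1 k d))

theorem id_apply {X : Scheme.{u}} {A B : X.Modules} (R : X.Opens) (b : Γ(A ⊞ B, R)) :
    (biprod.inl : A ⟶ A ⊞ B).app R ((biprod.fst : A ⊞ B ⟶ A).app R b) +
      (biprod.inr : B ⟶ A ⊞ B).app R ((biprod.snd : A ⊞ B ⟶ B).app R b) = b := by
  have h : (biprod.fst : A ⊞ B ⟶ A) ≫ biprod.inl + (biprod.snd : A ⊞ B ⟶ B) ≫ biprod.inr = 𝟙 (A ⊞ B) :=
    biprod.total
  exact congrArg (fun φ : A ⊞ B ⟶ A ⊞ B => φ.app R b) h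

theorem desc_apply {X : Scheme.{u}} {A B C : X.Modules} (f : A ⟶ C) (g : B ⟶ C) (R : X.Opens) (b : Γ(A ⊞ B, R)) :
    (biprod.desc f g).app R b =
      f.app R ((biprod.fst : A ⊞ B ⟶ A).app R b) + g.app R ((biprod.snd : A ⊞ B ⟶ B).app R b) :=
  congrArg (fun φ : A ⊞ B ⟶ C => φ.app R b) (biprod.desc_eq (f := f) (g := g))

theorem fst_lift_apply {X : Scheme.{u}} {D A B : X.Modules} (u : D ⟶ A) (v : D ⟶ B) (R : X.Opens) (d : Γ(D, R)) :
    (biprod.fst : A ⊞ B ⟶ A).app R ((biprod.lift u v).app R d) = u.app R d :=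
  congrArg (fun φ : D ⟶ A => φ.app R d) (biprod.lift_fst u v)

theorem snd_lift_apply {X : Scheme.{u}} {D A B : X.Modules} (u : D ⟶ A) (v : D ⟶ B) (R : X.Opens) (d : Γ(D, R)) :
    (biprod.snd : A ⊞ B ⟶ B).app R ((biprod.lift u v).app R d) = v.app R d :=
  congrArg (fun φ : D ⟶ B => φ.app R d) (biprod.lift_snd u v)

variable (k)

set_option maxHeartbeats 800000 in
/-- `0 → O(-i-1) → O(-i) ⊕ O(i) → O(i+1) → 0`. -/
theorem exists_shortExact (i : ℕ) :
    ∃ (j : T (-((i : ℤ) + 1)) ⟶ T (-(i : ℤ)) ⊞ T (i : ℤ)) (g : T (-(i : ℤ)) ⊞ T (i : ℤ) ⟶ T ((i : ℤ) + 1))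
      (w : j ≫ g = 0), (ShortComplex.mk j g w).ShortExact := by
  let p : Fin 2 → Polynomial k := ![1, Polynomial.X ^ (2 * i + 1)]
  let q : Fin 2 → Polynomial k := ![Polynomial.X, 1]
  have hp : ∀ d e : ℤ, e = d + (2 * i + 1 : ℕ) →
      negHom k (p 1) * LaurentPolynomial.T e = LaurentPolynomial.T d * posHom k (p 0) := fun d e h => by
    simp only [p, Matrix.cons_val_one, Matrix.cons_val_zero, negHom_X_pow, map_one, mul_one,
      ← LaurentPolynomial.T_add]
    congr 1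
    omega
  have hq : ∀ d e : ℤ, e = d + 1 →
      negHom k (q 1) * LaurentPolynomial.T e = LaurentPolynomial.T d * posHom k (q 0) := fun d e h => by
    simp only [q, Matrix.cons_val_one, Matrix.cons_val_zero, map_one, one_mul, posHom,
      Polynomial.toLaurent_X, ← LaurentPolynomial.T_add, h]
  obtain ⟨f, hf⟩ := exists_mulHom k (-(i : ℤ)) ((i : ℤ) + 1) p (hp _ _ (by push_cast; ring))
  obtain ⟨g, hg⟩ := exists_mulHom k (i : ℤ) ((i : ℤ) + 1) q (hq _ _ rfl)
  obtain ⟨u, hu⟩ := exists_mulHom k (-((i : ℤ) + 1)) (-(i : ℤ)) q (hq _ _ (by ring))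
  obtain ⟨v, hv⟩ := exists_mulHom k (-((i : ℤ) + 1)) (i : ℤ) p (hp _ _ (by push_cast; ring))
  have hcomm : u ≫ f = v ≫ g := ext_gen fun a => by
    show f.app (U k a) (u.app (U k a) (twGen k _ a)) = g.app (U k a) (v.app (U k a) (twGen k _ a))
    rw [hu, hv, Scheme.Modules.Hom.app_smul, Scheme.Modules.Hom.app_smul, hf, hg, ← mul_smul, ← mul_smul, mul_comm]
  have w : biprod.lift u (-v) ≫ biprod.desc f g = 0 := by
    rw [biprod.lift_desc, Preadditive.neg_comp, hcomm, add_neg_cancel]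
  refine ⟨biprod.lift u (-v), biprod.desc f g, w, ?_⟩
  refine Kunneth1.shortExact_of_affine_cover _ (isQCoh_tw _) (M1.isQCoh_biprod (isQCoh_tw _) (isQCoh_tw _))
    (isQCoh_tw _) fun x => ?_
  obtain ⟨a, ha⟩ := Opens.mem_iSup.1 ((iSup_U k).ge (Opens.mem_top x))
  have hc : ∀ s, g.app (U k a) (v.app (U k a) s) = f.app (U k a) (u.app (U k a) s) := fun s =>
    (congrArg (fun φ : T (-((i : ℤ) + 1)) ⟶ T ((i : ℤ) + 1) => φ.app (U k a) s) hcomm).symm
  have hz : ∀ s, (biprod.desc f g).app (U k a) ((biprod.lift u (-v)).app (U k a) s) = 0 := fun s =>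
    congrArg (fun φ : T (-((i : ℤ) + 1)) ⟶ T ((i : ℤ) + 1) => φ.app (U k a) s) w
  refine ⟨U k a, isAffineOpen_U k a, ha, ?_⟩
  change Function.Injective ((biprod.lift u (-v)).app (U k a)) ∧
    (∀ b, (biprod.desc f g).app (U k a) b = 0 → ∃ s, (biprod.lift u (-v)).app (U k a) s = b) ∧
    Function.Surjective ((biprod.desc f g).app (U k a))
  obtain rfl | rfl := (Fin.exists_fin_two (p := fun b => b = a)).1 ⟨a, rfl⟩
  · have Bf := bijective_app f 0 1 isUnit_one (by rw [hf 0]; simp [p])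
    have Bv := bijective_app v 0 1 isUnit_one (by rw [hv 0]; simp [p])
    refine ⟨fun s t h => ?_, fun b hb => ?_, fun c => ?_⟩
    · have h' := congrArg ((biprod.snd : T (-(i : ℤ)) ⊞ T (i : ℤ) ⟶ _).app (U k 0)) h
      rw [snd_lift_apply, snd_lift_apply] at h'
      exact Bv.1 (neg_injective h')
    · obtain ⟨s, hs⟩ := Bv.2 (-(biprod.snd : T (-(i : ℤ)) ⊞ T (i : ℤ) ⟶ _).app (U k 0) b)
      refine ⟨s, ?_⟩
      have h2 : (biprod.snd : T (-(i : ℤ)) ⊞ T (i : ℤ) ⟶ _).app (U k 0) ((biprod.lift u (-v)).app (U k 0) s) =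
          (biprod.snd : T (-(i : ℤ)) ⊞ T (i : ℤ) ⟶ _).app (U k 0) b := by
        rw [snd_lift_apply]
        show -(v.app (U k 0) s) = _
        rw [hs, neg_neg]
      have h1 : (biprod.fst : T (-(i : ℤ)) ⊞ T (i : ℤ) ⟶ _).app (U k 0) ((biprod.lift u (-v)).app (U k 0) s) =
          (biprod.fst : T (-(i : ℤ)) ⊞ T (i : ℤ) ⟶ _).app (U k 0) b := by
        refine Bf.1 (add_right_cancel (b := g.app (U k 0) ((biprod.snd : T (-(i : ℤ)) ⊞ T (i : ℤ) ⟶ _).app (U k 0) b)) ?_)
        conv_lhs => rw [← h2, ← desc_apply]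
        rw [← desc_apply]
        exact (hz s).trans hb.symm
      rw [← id_apply _ ((biprod.lift u (-v)).app _ s), h1, h2, id_apply]
    · obtain ⟨r, hr⟩ := Bf.2 c
      exact ⟨(biprod.inl : T (-(i : ℤ)) ⟶ T (-(i : ℤ)) ⊞ T (i : ℤ)).app (U k 0) r,
        (congrArg (fun φ : T (-(i : ℤ)) ⟶ T ((i : ℤ) + 1) => φ.app (U k 0) r) (biprod.inl_desc f g)).trans hr⟩
  · have Bg := bijective_app g 1 1 isUnit_one (by rw [hg 1]; simp [q])
    have Bu := bijective_app u 1 1 isUnit_one (by rw [hu 1]; simp [q])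
    refine ⟨fun s t h => ?_, fun b hb => ?_, fun c => ?_⟩
    · have h' := congrArg ((biprod.fst : T (-(i : ℤ)) ⊞ T (i : ℤ) ⟶ _).app (U k 1)) h
      rw [fst_lift_apply, fst_lift_apply] at h'
      exact Bu.1 h'
    · obtain ⟨s, hs⟩ := Bu.2 ((biprod.fst : T (-(i : ℤ)) ⊞ T (i : ℤ) ⟶ _).app (U k 1) b)
      refine ⟨s, ?_⟩
      have h1 : (biprod.fst : T (-(i : ℤ)) ⊞ T (i : ℤ) ⟶ _).app (U k 1) ((biprod.lift u (-v)).app (U k 1) s) =
          (biprod.fst : T (-(i : ℤ)) ⊞ T (i : ℤ) ⟶ _).app (U k 1) b := by rw [fst_lift_apply, hs]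
      have h2 : (biprod.snd : T (-(i : ℤ)) ⊞ T (i : ℤ) ⟶ _).app (U k 1) ((biprod.lift u (-v)).app (U k 1) s) =
          (biprod.snd : T (-(i : ℤ)) ⊞ T (i : ℤ) ⟶ _).app (U k 1) b := by
        refine Bg.1 (add_left_cancel (a := f.app (U k 1) ((biprod.fst : T (-(i : ℤ)) ⊞ T (i : ℤ) ⟶ _).app (U k 1) b)) ?_)
        conv_lhs => rw [← h1, ← desc_apply]
        rw [← desc_apply]
        exact (hz s).trans hb.symm
      rw [← id_apply _ ((biprod.lift u (-v)).app _ s), h1, h2, id_apply]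
    · obtain ⟨r, hr⟩ := Bg.2 c
      exact ⟨(biprod.inr : T (i : ℤ) ⟶ T (-(i : ℤ)) ⊞ T (i : ℤ)).app (U k 1) r,
        (congrArg (fun φ : T (i : ℤ) ⟶ T ((i : ℤ) + 1) => φ.app (U k 1) r) (biprod.inr_desc f g)).trans hr⟩

section Abelian

variable {C : Type w} [Category.{v} C] [Abelian C]

/-- The kernel of `(g, 0)`. -/
theorem nonempty_kernel_desc_zero {A B D E : C} (j : A ⟶ B) (g : B ⟶ D) (w : j ≫ g = 0)
    (hS : (ShortComplex.mk j g w).ShortExact) :
    Nonempty (kernel (biprod.desc g (0 : E ⟶ D)) ≅ E ⊞ A) := by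
  haveI : Mono j := hS.mono_f
  let m : kernel (biprod.desc g (0 : E ⟶ D)) ⟶ A :=
    hS.exact.lift (kernel.ι (biprod.desc g (0 : E ⟶ D)) ≫ biprod.fst) (by
      show (kernel.ι (biprod.desc g (0 : E ⟶ D)) ≫ biprod.fst) ≫ g = 0
      rw [Category.assoc, show (biprod.fst : B ⊞ E ⟶ B) ≫ g = biprod.desc g (0 : E ⟶ D) by ext <;> simp,
        kernel.condition])
  have hm : m ≫ j = kernel.ι (biprod.desc g (0 : E ⟶ D)) ≫ biprod.fst := hS.exact.lift_f _ _
  let n : E ⊞ A ⟶ kernel (biprod.desc g (0 : E ⟶ D)) :=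
    kernel.lift _ (biprod.desc biprod.inr (j ≫ biprod.inl)) (by ext <;> simp [w])
  refine ⟨{ hom := biprod.lift (kernel.ι _ ≫ biprod.snd) m, inv := n, hom_inv_id := ?_, inv_hom_id := ?_ }⟩
  · rw [← cancel_mono (kernel.ι _), Category.assoc, kernel.lift_ι, biprod.lift_desc, Category.id_comp,
      Category.assoc, reassoc_of% hm, ← Preadditive.comp_add, add_comm, biprod.total, Category.comp_id]
  · refine biprod.hom_ext _ _ ?_ ?_
    · rw [Category.assoc, biprod.lift_fst, ← Category.assoc, kernel.lift_ι, Category.id_comp]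
      ext <;> simp
    · rw [Category.assoc, biprod.lift_snd, Category.id_comp, ← cancel_mono j, Category.assoc, hm,
        ← Category.assoc, kernel.lift_ι]
      ext <;> simp

/-- The kernel of `(g, s)` with `s` invertible. -/
theorem nonempty_kernel_desc_isIso {B D E : C} (g : B ⟶ D) (s : E ⟶ D) [IsIso s] :
    Nonempty (kernel (biprod.desc g s) ≅ B) := by
  refine ⟨{
    hom := kernel.ι _ ≫ biprod.fst
    inv := kernel.lift _ (biprod.lift (𝟙 B) (-g ≫ inv s)) (by simp [Preadditive.neg_comp])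
    hom_inv_id := ?_
    inv_hom_id := by simp }⟩
  rw [← cancel_mono (kernel.ι _), Category.assoc, Category.assoc, kernel.lift_ι, Category.id_comp]
  refine biprod.hom_ext _ _ (by simp) ?_
  have h : kernel.ι (biprod.desc g s) ≫ biprod.fst ≫ g + kernel.ι (biprod.desc g s) ≫ biprod.snd ≫ s = 0 := by
    rw [← Preadditive.comp_add, ← biprod.desc_eq]
    exact kernel.condition _
  rw [← cancel_mono s]
  simp only [Category.assoc, biprod.lift_snd, Preadditive.neg_comp, IsIso.inv_hom_id, Category.comp_id,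
    Preadditive.comp_neg]
  exact (eq_neg_of_add_eq_zero_right h).symm

end Abelian

end Groth.Agent.JumpP1
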